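import Mathlib
import Cfsg.Agent.Omega.KM.Bridge
import Cfsg.Agent.Lib.AutSL2Out
import Cfsg.Agent.TwoFusion.SLTwoFacts
import Cfsg.Agent.LieRecognition.FieldSemilinear

section


/-!
# NO-3S, `q = 2`, `n = 1`, a component `SL₂(F)` ((A1) of helper881's text #13700): the nonsplit torus

`exists_tor` : there is `r ∈ SL(2,F)` with `r ^ (q + 1) = 1`, inverted by the matrix `(0 1; 1 0)`, such that
`∑_{k ≤ q} r ^ k` kills every irreducible nontrivial `F₂ SL(2,F)`-module.
-/

set_option autoImplicit false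
set_option linter.unusedSectionVars false

namespace Cfsg.Agent.Omega.NO3S.SLTwo

open Matrix Finset Cfsg.Agent.Omega.KM

section root

variable {F : Type*} [Field F] [Fintype F]

/-- elements of an extension fixed by the Frobenius of `F` -/
theorem mem_range_of_pow {K : Type*} [Field K] [Algebra F K] {x : K} (hx : x ^ Fintype.card F = x) :
    ∃ a : F, algebraMap F K a = x := by
  classical
  have hq := Fintype.one_lt_card (α := F)
  have hne : (Polynomial.X ^ Fintype.card F - Polynomial.X : Polynomial K) ≠ 0 :=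
    FiniteField.X_pow_card_sub_X_ne_zero K hq
  have hs : (univ.image fun a : F => algebraMap F K a) ⊆
      (Polynomial.X ^ Fintype.card F - Polynomial.X : Polynomial K).roots.toFinset := by
    intro y hy
    obtain ⟨a, -, rfl⟩ := mem_image.1 hy
    rw [Multiset.mem_toFinset, Polynomial.mem_roots hne, Polynomial.IsRoot.def]
    simp only [Polynomial.eval_sub, Polynomial.eval_pow, Polynomial.eval_X]
    rw [← map_pow, FiniteField.pow_card, sub_self]
  have hc : (Polynomial.X ^ Fintype.card F - Polynomial.X : Polynomial K).roots.toFinset.card ≤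
      (univ.image fun a : F => algebraMap F K a).card := by
    rw [card_image_of_injective _ (algebraMap F K).injective, card_univ]
    refine (Multiset.toFinset_card_le _).trans ((Polynomial.card_roots' _).trans ?_)
    rw [FiniteField.X_pow_card_sub_X_natDegree_eq K hq]
  have he := eq_of_subset_of_card_le hs hc
  have : x ∈ (Polynomial.X ^ Fintype.card F - Polynomial.X : Polynomial K).roots.toFinset := by
    rw [Multiset.mem_toFinset, Polynomial.mem_roots hne, Polynomial.IsRoot.def]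
    simp only [Polynomial.eval_sub, Polynomial.eval_pow, Polynomial.eval_X]
    rw [hx, sub_self]
  rw [← he, mem_image] at this
  obtain ⟨a, -, ha⟩ := this
  exact ⟨a, ha⟩

variable [CharP F 2] {m : ℕ}

/-- a primitive root of unity of order `q + 1` with trace in `F` -/
theorem exists_zeta (hm : Fintype.card F = 2 ^ m) :
    ∃ (ζ : AlgebraicClosure F) (t : F), IsPrimitiveRoot ζ (2 ^ m + 1) ∧
      algebraMap F (AlgebraicClosure F) t = ζ + ζ⁻¹ := by
  have hm0 : m ≠ 0 := by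
    rintro rfl
    have := Fintype.one_lt_card (α := F)
    rw [hm] at this
    simp at this
  have h2 : CharP (AlgebraicClosure F) 2 := charP_of_injective_algebraMap (algebraMap F _).injective 2
  have hne : NeZero ((2 ^ m + 1 : ℕ) : AlgebraicClosure F) := ⟨by
    push_cast
    have : (2 : AlgebraicClosure F) = 0 := CharTwo.two_eq_zero
    rw [this, zero_pow hm0, zero_add]
    exact one_ne_zero⟩
  obtain ⟨ζ, hζ⟩ := HasEnoughRootsOfUnity.exists_primitiveRoot (AlgebraicClosure F) (2 ^ m + 1)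
  have hζ0 : ζ ≠ 0 := hζ.ne_zero (by positivity)
  have h3 : ζ ^ 2 ^ m = ζ⁻¹ := by
    have := hζ.pow_eq_one
    rw [pow_succ] at this
    exact eq_inv_of_mul_eq_one_left this
  obtain ⟨t, ht⟩ := mem_range_of_pow (F := F) (K := AlgebraicClosure F) (x := ζ + ζ⁻¹) (by
    rw [hm, add_pow_char_pow, inv_pow, h3, inv_inv, add_comm])
  exact ⟨ζ, t, hζ, ht⟩

end root

section seq

variable {K : Type*} [Field K] [CharP K 2] {ζ : K} {m : ℕ}

/-- a linear recurrent sequence with eigenvalues `ζ`, `ζ⁻¹` -/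
theorem seq_eq (hζ : ζ ≠ 0) (hz : ζ + ζ⁻¹ ≠ 0) (u : ℕ → K) (hu : ∀ k, u (k + 2) = (ζ + ζ⁻¹) * u (k + 1) + u k) :
    ∃ b c : K, ∀ k, u k = b * ζ ^ k + c * ζ⁻¹ ^ k := by
  have h2 : (2 : K) = 0 := CharTwo.two_eq_zero
  refine ⟨(u 1 + ζ⁻¹ * u 0) / (ζ + ζ⁻¹), (u 1 + ζ * u 0) / (ζ + ζ⁻¹), ?_⟩
  have key : ∀ k, u k = (u 1 + ζ⁻¹ * u 0) / (ζ + ζ⁻¹) * ζ ^ k + (u 1 + ζ * u 0) / (ζ + ζ⁻¹) * ζ⁻¹ ^ k ∧
      u (k + 1) = (u 1 + ζ⁻¹ * u 0) / (ζ + ζ⁻¹) * ζ ^ (k + 1) + (u 1 + ζ * u 0) / (ζ + ζ⁻¹) * ζ⁻¹ ^ (k + 1) := by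
    intro k
    induction k with
    | zero =>
      constructor
      · rw [pow_zero, pow_zero, mul_one, mul_one, ← add_div, eq_div_iff hz]
        linear_combination -(u 1) * h2
      · rw [zero_add, pow_one, pow_one, div_mul_eq_mul_div, div_mul_eq_mul_div, ← add_div, eq_div_iff hz]
        have : ζ⁻¹ * ζ = 1 := inv_mul_cancel₀ hζ
        linear_combination -(u 0) * (ζ * ζ⁻¹) * h2
    | succ k ih =>
      refine ⟨ih.2, ?_⟩
      rw [hu k, ih.1, ih.2]
      have e : ζ * ζ⁻¹ = 1 := mul_inv_cancel₀ hζ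
      have e1 : ζ ^ (k + 1 + 1) = (ζ + ζ⁻¹) * ζ ^ (k + 1) + ζ ^ k := by
        rw [pow_succ ζ (k + 1), pow_succ ζ k]
        linear_combination -(ζ ^ k) * e - ζ ^ k * h2
      have e2 : ζ⁻¹ ^ (k + 1 + 1) = (ζ + ζ⁻¹) * ζ⁻¹ ^ (k + 1) + ζ⁻¹ ^ k := by
        rw [pow_succ ζ⁻¹ (k + 1), pow_succ ζ⁻¹ k]
        linear_combination -(ζ⁻¹ ^ k) * e - ζ⁻¹ ^ k * h2
      rw [e1, e2]
      ring
  exact fun k => (key k).1

/-- the sum of the powers `μ = bits I` of such a sequence over a period -/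
theorem sum_seq (hζ : IsPrimitiveRoot ζ (2 ^ m + 1)) {I : Finset ℕ} (hI : I ⊆ range m) (hne : I.Nonempty)
    (b c : K) : ∑ k ∈ range (2 ^ m + 1), (b * ζ ^ k + c * ζ⁻¹ ^ k) ^ bits I = 0 := by
  have hζ0 : ζ ≠ 0 := hζ.ne_zero (by positivity)
  have h1 : ∀ k, (b * ζ ^ k + c * ζ⁻¹ ^ k) ^ bits I =
      ∑ J ∈ I.powerset, ((b ^ bits J * c ^ bits (I \ J)) * (ζ ^ bits J * ζ⁻¹ ^ bits (I \ J)) ^ k) := by
    intro k
    rw [pow_bits]
    have h2 : ∀ j ∈ I, (b * ζ ^ k + c * ζ⁻¹ ^ k) ^ 2 ^ j = (b * ζ ^ k) ^ 2 ^ j + (c * ζ⁻¹ ^ k) ^ 2 ^ j :=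
      fun j _ => add_pow_char_pow _ _ _ _
    rw [Finset.prod_congr rfl h2, Finset.prod_add]
    refine Finset.sum_congr rfl fun J _ => ?_
    rw [← pow_bits, ← pow_bits, mul_pow, mul_pow, mul_pow, ← pow_mul, ← pow_mul, ← pow_mul, ← pow_mul,
      mul_comm (bits J) k, mul_comm (bits (I \ J)) k]
    ring
  rw [Finset.sum_congr rfl fun k _ => h1 k, Finset.sum_comm]
  refine Finset.sum_eq_zero fun J hJ => ?_
  rw [← Finset.mul_sum]
  refine mul_eq_zero_of_right _ ?_
  have hJI := Finset.mem_powerset.1 hJ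
  set η := ζ ^ bits J * ζ⁻¹ ^ bits (I \ J) with hη
  have hη1 : η ^ (2 ^ m + 1) = 1 := by
    rw [hη, mul_pow, ← pow_mul, ← pow_mul, mul_comm (bits J), mul_comm (bits (I \ J)), pow_mul, pow_mul,
      inv_pow, hζ.pow_eq_one, inv_one, one_pow, one_pow, mul_one]
  have hlt1 := bits_lt (hJI.trans hI)
  have hlt2 := bits_lt ((Finset.sdiff_subset (s := I) (t := J)).trans hI)
  have hne' : bits J ≠ bits (I \ J) := by
    intro e
    have e' := bits_injective e
    obtain ⟨i, hi⟩ := hne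
    by_cases hiJ : i ∈ J
    · have := hiJ
      rw [e', Finset.mem_sdiff] at this
      exact this.2 hiJ
    · exact hiJ (by rw [e']; exact Finset.mem_sdiff.2 ⟨hi, hiJ⟩)
  have hη2 : η ≠ 1 := by
    intro e
    rw [hη, inv_pow, mul_inv_eq_one₀ (pow_ne_zero _ hζ0)] at e
    exact hne' (hζ.pow_inj (by omega) (by omega) e)
  have h3 := geom_sum_mul η (2 ^ m + 1)
  rw [hη1, sub_self] at h3
  exact (mul_eq_zero.1 h3).resolve_right (sub_ne_zero.2 hη2)

end seq

section tor

variable {F : Type*} [Field F] [Fintype F] [CharP F 2] {m : ℕ}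

/-- the companion matrix of `X² - t X + 1` -/
def tor (t : F) : SpecialLinearGroup (Fin 2) F :=
  ⟨!![0, 1; 1, t], by rw [det_fin_two_of]; simpa using CharTwo.neg_eq (1 : F)⟩

theorem tor_sq (t : F) : (tor t).1 * (tor t).1 = t • (tor t).1 + 1 := by
  ext i j
  fin_cases i <;> fin_cases j <;> simp [tor, Matrix.mul_apply, Fin.sum_univ_two]
  ring

theorem ww_tor (t : F) : (ww : SpecialLinearGroup (Fin 2) F) * tor t * ww = (tor t)⁻¹ := by
  refine eq_inv_of_mul_eq_one_left (Subtype.ext ?_)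
  change (!![0, 1; 1, 0] : Matrix (Fin 2) (Fin 2) F) * !![0, 1; 1, t] * !![0, 1; 1, 0] * !![0, 1; 1, t] = 1
  ext i j
  fin_cases i <;> fin_cases j <;>
    simp [Matrix.mul_apply, Fin.sum_univ_two, CharTwo.add_self_eq_zero]

/-- the nonsplit torus kills the forms -/
theorem exists_tor (hm : Fintype.card F = 2 ^ m) : ∃ t : F, tor t ^ (2 ^ m + 1) = 1 ∧
    ∀ I ⊆ range m, I.Nonempty → ∀ a : F × F,
      ∑ k ∈ range (2 ^ m + 1), act (tor t ^ k) (linp (bits I) a) = 0 := by
  obtain ⟨ζ, t, hζ, ht⟩ := exists_zeta hm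
  have hm0 : m ≠ 0 := by
    rintro rfl
    have := Fintype.one_lt_card (α := F)
    rw [hm] at this
    simp at this
  have hζ0 : ζ ≠ 0 := hζ.ne_zero (by positivity)
  have hchar : CharP (AlgebraicClosure F) 2 := charP_of_injective_algebraMap (algebraMap F _).injective 2
  have hz : ζ + ζ⁻¹ ≠ 0 := by
    intro e
    have e1 : ζ = ζ⁻¹ := CharTwo.add_eq_zero.1 e
    have e2 : ζ ^ 2 = 1 := by
      rw [pow_two]
      nth_rewrite 2 [e1]
      exact mul_inv_cancel₀ hζ0
    have h3 := hζ.dvd_of_pow_eq_one 2 e2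
    have h4 := Nat.le_of_dvd (by norm_num) h3
    have h5 : 2 ^ 1 ≤ 2 ^ m := Nat.pow_le_pow_right (by norm_num) (Nat.one_le_iff_ne_zero.2 hm0)
    omega
  -- linear forms along the powers
  have key : ∀ (a : F × F) (v : Fin 2 → F), ∃ b c : AlgebraicClosure F, ∀ k : ℕ,
      algebraMap F (AlgebraicClosure F) (a.1 * (v ᵥ* (tor t ^ k).1) 0 + a.2 * (v ᵥ* (tor t ^ k).1) 1) =
        b * ζ ^ k + c * ζ⁻¹ ^ k := by
    intro a v
    refine seq_eq hζ0 hz (fun k => algebraMap F (AlgebraicClosure F)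
      (a.1 * (v ᵥ* (tor t ^ k).1) 0 + a.2 * (v ᵥ* (tor t ^ k).1) 1)) fun k => ?_
    have h1 : (tor t ^ (k + 2)).1 = t • (tor t ^ (k + 1)).1 + (tor t ^ k).1 := by
      rw [pow_succ (tor t) (k + 1), pow_succ (tor t) k]
      change (tor t ^ k).1 * (tor t).1 * (tor t).1 = t • ((tor t ^ k).1 * (tor t).1) + (tor t ^ k).1
      rw [Matrix.mul_assoc, tor_sq, Matrix.mul_add, Matrix.mul_one, Matrix.mul_smul]
    have h2 : v ᵥ* (tor t ^ (k + 2)).1 = t • (v ᵥ* (tor t ^ (k + 1)).1) + v ᵥ* (tor t ^ k).1 := by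
      rw [h1, Matrix.vecMul_add, Matrix.vecMul_smul]
    change algebraMap F _ (a.1 * (v ᵥ* (tor t ^ (k + 2)).1) 0 + a.2 * (v ᵥ* (tor t ^ (k + 2)).1) 1) =
      (ζ + ζ⁻¹) * algebraMap F _ (a.1 * (v ᵥ* (tor t ^ (k + 1)).1) 0 + a.2 * (v ᵥ* (tor t ^ (k + 1)).1) 1) +
      algebraMap F _ (a.1 * (v ᵥ* (tor t ^ k).1) 0 + a.2 * (v ᵥ* (tor t ^ k).1) 1)
    rw [h2, ← ht, ← map_mul, ← map_add]
    congr 1
    simp only [Pi.add_apply, Pi.smul_apply, smul_eq_mul]
    ring
  refine ⟨t, ?_, fun I hI hne a => ?_⟩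
  · -- the order
    have h1 : ∀ (a : F × F) (v : Fin 2 → F),
        a.1 * (v ᵥ* (tor t ^ (2 ^ m + 1)).1) 0 + a.2 * (v ᵥ* (tor t ^ (2 ^ m + 1)).1) 1 = a.1 * v 0 + a.2 * v 1 := by
      intro a v
      obtain ⟨b, c, hbc⟩ := key a v
      apply (algebraMap F (AlgebraicClosure F)).injective
      rw [hbc]
      have h0 := hbc 0
      rw [pow_zero, pow_zero, pow_zero, mul_one, mul_one] at h0
      rw [inv_pow, hζ.pow_eq_one, inv_one, mul_one, mul_one, ← h0]
      simp
    apply Subtype.ext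
    ext i j
    have h2 := h1 (1, 0) (Pi.single i 1)
    have h3 := h1 (0, 1) (Pi.single i 1)
    simp only [one_mul, zero_mul, add_zero, zero_add, Matrix.single_one_vecMul, Matrix.row_apply] at h2 h3
    change (tor t ^ (2 ^ m + 1)).1 i j = (1 : Matrix (Fin 2) (Fin 2) F) i j
    fin_cases j
    · change (tor t ^ (2 ^ m + 1)).1 i 0 = (1 : Matrix (Fin 2) (Fin 2) F) i 0
      rw [h2, Matrix.one_apply, Pi.single_apply]
      exact if_congr eq_comm rfl rfl
    · change (tor t ^ (2 ^ m + 1)).1 i 1 = (1 : Matrix (Fin 2) (Fin 2) F) i 1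
      rw [h3, Matrix.one_apply, Pi.single_apply]
      exact if_congr eq_comm rfl rfl
  · funext v
    obtain ⟨b, c, hbc⟩ := key a v
    apply (algebraMap F (AlgebraicClosure F)).injective
    rw [Finset.sum_apply, map_sum]
    have h1 : ∀ k, algebraMap F (AlgebraicClosure F) (act (tor t ^ k) (linp (bits I) a) v) =
        (b * ζ ^ k + c * ζ⁻¹ ^ k) ^ bits I := by
      intro k
      rw [act_apply]
      change algebraMap F _ ((a.1 * (v ᵥ* (tor t ^ k).1) 0 + a.2 * (v ᵥ* (tor t ^ k).1) 1) ^ bits I) = _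
      rw [map_pow, hbc]
    rw [Finset.sum_congr rfl fun k _ => h1 k, sum_seq hζ hI hne, Pi.zero_apply, map_zero]

end tor

section mod

variable {F : Type*} [Field F] [Fintype F] [CharP F 2] {m : ℕ}

/-- the nonsplit torus kills every irreducible nontrivial `F₂ SL(2,F)`-module -/
theorem exists_tor_mod (hm : Fintype.card F = 2 ^ m) : ∃ t : F, tor t ^ (2 ^ m + 1) = 1 ∧
    ∀ {V : Type*} [AddCommGroup V] [Nontrivial V], (∀ v : V, v + v = 0) →
      ∀ ρ : SpecialLinearGroup (Fin 2) F →* AddMonoid.End V,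
        (∀ W : AddSubgroup V, (∀ g, ∀ w ∈ W, ρ g w ∈ W) → W = ⊥ ∨ W = ⊤) → (∃ g v, ρ g v ≠ v) →
          ∀ v, ∑ k ∈ range (2 ^ m + 1), ρ (tor t ^ k) v = 0 := by
  obtain ⟨t, ht, hsum⟩ := exists_tor hm
  refine ⟨t, ht, ?_⟩
  intro V _ _ h2 ρ hirr hnt v
  obtain ⟨I, hI, hne, Ψ, hinj, heq, hrange⟩ := f2 hm h2 ρ hirr hnt
  apply hinj
  rw [map_sum, map_zero]
  rw [Finset.sum_congr rfl fun k _ => heq _ _]
  have hv : Ψ v ∈ AddSubgroup.closure (Set.range (linp (F := F) (bits I))) := by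
    rw [← hrange]; exact ⟨v, rfl⟩
  generalize Ψ v = f at hv
  induction hv using AddSubgroup.closure_induction with
  | mem f hf =>
    obtain ⟨a, rfl⟩ := hf
    exact hsum I hI hne a
  | zero => simp
  | add f g _ _ hf hg =>
    rw [Finset.sum_congr rfl fun k _ => map_add _ _ _, Finset.sum_add_distrib, hf, hg, add_zero]
  | neg f _ hf =>
    rw [Finset.sum_congr rfl fun k _ => map_neg _ _, Finset.sum_neg_distrib, hf, neg_zero]

end mod

end Cfsg.Agent.Omega.NO3S.SLTwo

end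

section


/-!
# NO-3S, `q = 2`, `n = 1`, a component `SL₂(F)`: automorphisms of `SL(2,F)`, `F` finite of characteristic 2

`IsInn α` : `α` is inner; `exists_form` : `α x = s * σ(x) * s⁻¹`; `up_of_fix` : an automorphism trivial on the
upper unitriangular group `U` is conjugation by an element of `U`; `up_of_inn` : an inner automorphism of order 2
which normalises `U` is conjugation by an element of `U`; `inn_mul` : two commuting non-inner involutions have an inner
product; `eq_top_of_normal` : `SL(2,F)` is simple, `|F| ≥ 4`.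
-/

set_option autoImplicit false
set_option linter.unusedSectionVars false

namespace Cfsg.Agent.Omega.NO3S.SLTwo

open Matrix Subgroup Cfsg.Agent.Lib.SL2Mat Cfsg.Agent.Lib.AutSL2 Cfsg.Agent.Lib.AutSL2Out

variable {F : Type*} [Field F]

local notation "SL2" => Matrix.SpecialLinearGroup (Fin 2) F

/-- inner automorphisms -/
def IsInn (α : MulAut SL2) : Prop := ∃ s : SL2, ∀ x, α x = s * x * s⁻¹

theorem fieldAut_one : fieldAut (1 : F ≃+* F) = 1 := map_one _

theorem isInn_one : IsInn (1 : MulAut SL2) := ⟨1, fun x => by simp⟩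

theorem IsInn.mul {α β : MulAut SL2} (h : IsInn α) (h' : IsInn β) : IsInn (α * β) := by
  obtain ⟨s, hs⟩ := h
  obtain ⟨t, ht⟩ := h'
  exact ⟨s * t, fun x => by rw [MulAut.mul_apply, ht, hs]; group⟩

theorem IsInn.inv {α : MulAut SL2} (h : IsInn α) : IsInn α⁻¹ := by
  obtain ⟨s, hs⟩ := h
  refine ⟨s⁻¹, fun x => ?_⟩
  apply α.injective
  rw [MulAut.apply_inv_self, hs]
  group

theorem ent_up_mul (b : F) (x : SL2) (i : Fin 2) : ent (up b * x) 0 i = ent x 0 i + b * ent x 1 i := by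
  rw [ent_mul, up_00, up_01, one_mul]

theorem ent_mul_up (b : F) (x : SL2) (i : Fin 2) : ent (x * up b) i 1 = ent x i 0 * b + ent x i 1 := by
  rw [ent_mul, up_01, up_11, mul_one]

variable [CharP F 2]

theorem two_eq : (2 : F) = 0 := CharTwo.two_eq_zero

/-- `s` centralises `up b ↦ up (σ b)`: then `σ = 1` and `s ∈ U` -/
theorem of_fix {s : SL2} {σ : F ≃+* F} (h : ∀ b, s * up (σ b) * s⁻¹ = up b) : σ = 1 ∧ ∃ q, s = up q := by
  have h1 : ∀ b, s * up (σ b) = up b * s := fun b => by rw [← h b]; group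
  have h10 : ent s 1 0 = 0 := by
    have e := congrArg (fun y => ent y 0 0) (h1 1)
    simp only [ent_mul, up_00, up_01, up_10, map_one, mul_one, one_mul, mul_zero, add_zero] at e
    linear_combination -e
  have hd := det_eq s
  rw [h10, mul_zero, sub_zero] at hd
  have h2 : ∀ b, ent s 0 0 * σ b = b * ent s 1 1 := fun b => by
    have e := congrArg (fun y => ent y 0 1) (h1 b)
    simp only [ent_mul, up_00, up_01, up_11, mul_one, one_mul] at e
    linear_combination e
  have h3 : ent s 0 0 = ent s 1 1 := by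
    have := h2 1
    rwa [map_one, mul_one, one_mul] at this
  have h4 : ent s 0 0 = 1 := by
    have h5 : (ent s 0 0 - 1) * (ent s 0 0 - 1) = 0 := by
      rw [← h3] at hd
      linear_combination hd + (1 - ent s 0 0) * (two_eq (F := F))
    exact sub_eq_zero.1 (mul_self_eq_zero.1 h5)
  have h5 : ent s 1 1 = 1 := by rw [← h3, h4]
  refine ⟨?_, ent s 0 1, ?_⟩
  · ext b
    have := h2 b
    rwa [h4, h5, one_mul, mul_one] at this
  · refine ext_ent ?_ ?_ ?_ ?_
    · rw [h4, up_00]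
    · rw [up_01]
    · rw [h10, up_10]
    · rw [h5, up_11]

/-- the centre is trivial -/
theorem eq_one_of_comm {s : SL2} (h : ∀ x : SL2, s * x = x * s) : s = 1 := by
  obtain ⟨-, q, rfl⟩ := of_fix (s := s) (σ := 1) (fun b => by
    change s * up b * s⁻¹ = up b
    rw [h]; group)
  have h1 := congrArg (fun y => ent y 0 0) (h (lo 1))
  simp only [ent_mul, up_00, up_01, lo_00, lo_10, lo_01, mul_one, zero_mul, add_zero] at h1
  have : q = 0 := by linear_combination h1
  rw [this, up_zero]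

theorem eq_of_conj {s t : SL2} (h : ∀ x : SL2, s * x * s⁻¹ = t * x * t⁻¹) : s = t := by
  have h1 : t⁻¹ * s = 1 := by
    refine eq_one_of_comm fun x => ?_
    have := h x
    calc t⁻¹ * s * x = t⁻¹ * (s * x * s⁻¹) * s := by group
      _ = t⁻¹ * (t * x * t⁻¹) * s := by rw [this]
      _ = x * (t⁻¹ * s) := by group
  rw [inv_mul_eq_one] at h1
  exact h1.symm

section fin

variable [Finite F]

/-- the automorphisms of `SL(2,F)` -/
theorem exists_form (α : MulAut SL2) : ∃ (s : SL2) (σ : F ≃+* F), ∀ x, α x = s * fieldAut σ x * s⁻¹ := by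
  obtain ⟨g, σ, rfl⟩ := exists_eq α
  obtain ⟨d, hd⟩ : ∃ d : F, g.1.det = d ^ 2 := by
    have : Fintype F := Fintype.ofFinite F
    obtain ⟨d, hd⟩ := FiniteField.isSquare_of_char_two (F := F) (ringChar.eq F 2).symm.symm g.1.det
    exact ⟨d, by rw [hd, pow_two]⟩
  have hdet : g.1.det ≠ 0 := (Matrix.GeneralLinearGroup.det g).ne_zero
  obtain ⟨s, hs⟩ := conjGL_of_det_sq g d (by rintro rfl; exact hdet (by rw [hd]; simp)) hd
  exact ⟨s, σ, fun x => by rw [MulAut.mul_apply, hs]⟩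

/-- an automorphism trivial on `U` is conjugation by an element of `U` -/
theorem up_of_fix {α : MulAut SL2} (h : ∀ b, α (up b) = up b) : ∃ q, ∀ x, α x = up q * x * (up q)⁻¹ := by
  obtain ⟨s, σ, hα⟩ := exists_form α
  obtain ⟨rfl, q, rfl⟩ := of_fix (s := s) (σ := σ) (fun b => by rw [← fieldAut_up, ← hα, h])
  exact ⟨q, fun x => by rw [hα, fieldAut_one, MulAut.one_apply]⟩

/-- the field part of an inner automorphism is trivial -/
theorem field_eq_one {α : MulAut SL2} (hα : IsInn α) {s : SL2} {σ : F ≃+* F}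
    (h : ∀ x, α x = s * fieldAut σ x * s⁻¹) : σ = 1 := by
  obtain ⟨t, ht⟩ := hα
  refine (of_fix (s := t⁻¹ * s) (σ := σ) fun b => ?_).1
  rw [← fieldAut_up]
  have := h (up b)
  rw [ht] at this
  calc t⁻¹ * s * fieldAut σ (up b) * (t⁻¹ * s)⁻¹ = t⁻¹ * (s * fieldAut σ (up b) * s⁻¹) * t := by group
    _ = t⁻¹ * (t * up b * t⁻¹) * t := by rw [this]
    _ = up b := by group

/-- an inner automorphism of order 2 which normalises `U` -/
theorem up_of_inn {α : MulAut SL2} (hα : IsInn α) (h2 : ∀ x, α (α x) = x) (hU : ∀ b, ∃ c, α (up b) = up c) :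
    ∃ q, ∀ x, α x = up q * x * (up q)⁻¹ := by
  obtain ⟨s, hs⟩ := hα
  have h10 : ent s 1 0 = 0 := by
    obtain ⟨c, hc⟩ := hU 1
    rw [hs] at hc
    have h1 : s * up 1 = up c * s := by rw [← hc]; group
    have e1 := congrArg (fun y => ent y 1 1) h1
    simp only [ent_mul, up_10, up_01, up_11, mul_one, one_mul, zero_mul, zero_add] at e1
    linear_combination e1
  have hss : s * s = 1 := by
    refine eq_one_of_comm fun x => ?_
    have := h2 x
    rw [hs, hs] at this
    calc s * s * x = s * (s * x * s⁻¹) * s⁻¹ * (s * s) := by group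
      _ = x * (s * s) := by rw [this]
  have hd := det_eq s
  rw [h10, mul_zero, sub_zero] at hd
  have h00 : ent s 0 0 * ent s 0 0 = 1 := by
    have e1 := congrArg (fun y => ent y 0 0) hss
    simp only [ent_mul, h10, mul_zero, add_zero, ent_one_00] at e1
    exact e1
  have h4 : ent s 0 0 = 1 := by
    have h5 : (ent s 0 0 - 1) * (ent s 0 0 - 1) = 0 := by
      linear_combination h00 + (1 - ent s 0 0) * (two_eq (F := F))
    exact sub_eq_zero.1 (mul_self_eq_zero.1 h5)
  rw [h4, one_mul] at hd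
  refine ⟨ent s 0 1, fun x => ?_⟩
  have : s = up (ent s 0 1) := by
    refine ext_ent ?_ ?_ ?_ ?_
    · rw [h4, up_00]
    · rw [up_01]
    · rw [h10, up_10]
    · rw [hd, up_11]
  rw [hs, ← this]

theorem ringAut_involution_unique {σ τ : F ≃+* F} (hσ : σ * σ = 1) (hτ : τ * τ = 1) (hσ1 : σ ≠ 1)
    (hτ1 : τ ≠ 1) : σ = τ := by
  classical
  have : IsCyclic (F ≃+* F) := Cfsg.Agent.LieRecognition.FieldSemilinear.isCyclic_ringAut F
  have : Finite (F ≃+* F) := Finite.of_injective (fun f : F ≃+* F => (f : F → F)) DFunLike.coe_injective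
  let _ := Fintype.ofFinite (F ≃+* F)
  by_contra hne
  have h1 := IsCyclic.card_pow_eq_one_le (α := F ≃+* F) (n := 2) (by norm_num)
  have h3 : ({1, σ, τ} : Finset (F ≃+* F)) ⊆ Finset.univ.filter (fun a => a ^ 2 = 1) := by
    intro x hx
    simp only [Finset.mem_insert, Finset.mem_singleton] at hx
    rw [Finset.mem_filter]
    refine ⟨Finset.mem_univ _, ?_⟩
    rcases hx with rfl | rfl | rfl
    · exact one_pow _
    · rw [sq, hσ]
    · rw [sq, hτ]
  have h4 := Finset.card_le_card h3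
  have h5 : ({1, σ, τ} : Finset (F ≃+* F)).card = 3 := by
    rw [Finset.card_insert_of_notMem, Finset.card_insert_of_notMem, Finset.card_singleton]
    · rw [Finset.mem_singleton]; exact hne
    · simp only [Finset.mem_insert, Finset.mem_singleton, not_or]
      exact ⟨hσ1.symm, hτ1.symm⟩
  omega

/-- the field part of an involution -/
theorem sq_field {α : MulAut SL2} (h2 : ∀ x, α (α x) = x) {s : SL2} {σ : F ≃+* F}
    (h : ∀ x, α x = s * fieldAut σ x * s⁻¹) : σ * σ = 1 := by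
  refine field_eq_one (α := 1) isInn_one (s := s * fieldAut σ s) fun x => ?_
  rw [MulAut.one_apply]
  conv_lhs => rw [← h2 x, h (α x), h x]
  rw [map_mul, map_mul, map_mul fieldAut, MulAut.mul_apply, map_inv]
  group

/-- two non-inner involutory automorphisms differ by an inner one -/
theorem inn_mul {α β : MulAut SL2} (hα : ∀ x, α (α x) = x) (hβ : ∀ x, β (β x) = x) (h1 : ¬ IsInn α)
    (h2 : ¬ IsInn β) : IsInn (α * β) := by
  obtain ⟨s, σ, hs⟩ := exists_form α
  obtain ⟨t, τ, ht⟩ := exists_form β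
  have hσ := sq_field hα hs
  have hτ := sq_field hβ ht
  have hσ1 : σ ≠ 1 := by
    rintro rfl
    exact h1 ⟨s, fun x => by rw [hs, fieldAut_one, MulAut.one_apply]⟩
  have hτ1 : τ ≠ 1 := by
    rintro rfl
    exact h2 ⟨t, fun x => by rw [ht, fieldAut_one, MulAut.one_apply]⟩
  obtain rfl := ringAut_involution_unique hσ hτ hσ1 hτ1
  refine ⟨s * fieldAut σ t, fun x => ?_⟩
  have h3 : fieldAut σ (fieldAut σ x) = x := by
    rw [← MulAut.mul_apply, ← map_mul, hσ, map_one, MulAut.one_apply]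
  rw [MulAut.mul_apply, ht, hs, map_mul, map_mul, map_inv, h3]
  group

end fin

/-- `SL(2,F)` is simple -/
theorem eq_top_of_normal [Finite F] (h4 : 4 ≤ Nat.card F) {X : Subgroup SL2} (hX : X.Normal) (hne : X ≠ ⊥) :
    X = ⊤ := by
  classical
  have : Fintype F := Fintype.ofFinite F
  rw [Nat.card_eq_fintype_card] at h4
  have hc : center SL2 = ⊥ := by
    rw [eq_bot_iff]
    intro s hs
    rw [mem_bot]
    exact eq_one_of_comm fun x => (mem_center_iff.1 hs x).symm
  have hs : IsSimpleGroup (Matrix.ProjectiveSpecialLinearGroup (Fin 2) F) :=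
    Cfsg.Agent.TwoFusion.SLTwoFacts.isSimpleGroup_psl h4
  have hn : (X.map (QuotientGroup.mk' (center SL2))).Normal := hX.map _ (QuotientGroup.mk'_surjective _)
  rcases hs.eq_bot_or_eq_top_of_normal _ hn with h | h
  · exfalso
    apply hne
    rw [Subgroup.map_eq_bot_iff, QuotientGroup.ker_mk', hc] at h
    exact le_bot_iff.1 h
  · rw [eq_top_iff]
    intro x _
    have hx : QuotientGroup.mk' (center SL2) x ∈ X.map (QuotientGroup.mk' (center SL2)) := by rw [h]; trivial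
    obtain ⟨y, hy, hxy⟩ := hx
    have h1 : y⁻¹ * x ∈ center SL2 := by
      rw [← QuotientGroup.eq]
      exact hxy
    rw [hc, mem_bot, inv_mul_eq_one] at h1
    rw [← h1]
    exact hy

end Cfsg.Agent.Omega.NO3S.SLTwo

end

section


/-!
# NO-3S, `q = 2`, `n = 1`, a component `SL₂(F)`: modules of groups with a normal subgroup `SL(2,F)`

`H` acts irreducibly on the elementary abelian 2-group `N`, `ι : SL(2,F) → H` with normal image acting nontrivially.

* `Inv ι X` : `X` is `SL(2,F)`-invariant, `Mn ι Y` : minimal invariant; `exists_mn`, `mn_span` (Clifford);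
* `trace_zero` : `∑_k (tor t)^k = 0` on `N`;
* `card_le_sq` : `|N| ≤ |N : C_N(a)|²` if `a` acts on `SL(2,F)` as a conjugate of an involution.
-/

set_option autoImplicit false
set_option linter.unusedSectionVars false

namespace Cfsg.Agent.Omega.NO3S.SLTwo

open Matrix Subgroup Cfsg.Agent.Lib.SL2Mat Cfsg.Agent.Lib.AutSL2 Cfsg.Agent.Lib.AutSL2Out
open Cfsg.Agent.Omega.KM (ww)

variable {F : Type*} [Field F]

local notation "SL2" => Matrix.SpecialLinearGroup (Fin 2) F

section defs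

variable {H N : Type*} [Group H] [AddCommGroup N] [DistribMulAction H N]

/-- the fixed points of `a` -/
def fixN (N : Type*) [AddCommGroup N] {H : Type*} [Group H] [DistribMulAction H N] (a : H) : AddSubgroup N where
  carrier := {n | a • n = n}
  add_mem' {x y} hx hy := by
    change a • (x + y) = x + y
    rw [smul_add, show a • x = x from hx, show a • y = y from hy]
  zero_mem' := smul_zero a
  neg_mem' {x} hx := by
    change a • (-x) = -x
    rw [smul_neg, show a • x = x from hx]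

theorem mem_fixN {a : H} {n : N} : n ∈ fixN N a ↔ a • n = n := Iff.rfl

variable (ι : Matrix.SpecialLinearGroup (Fin 2) F →* H)

/-- `SL(2,F)`-invariant -/
def Inv (X : AddSubgroup N) : Prop := ∀ g : SL2, ∀ x ∈ X, ι g • x ∈ X

/-- minimal `SL(2,F)`-invariant -/
structure Mn (Y : AddSubgroup N) : Prop where
  inv : Inv ι Y
  ne : Y ≠ ⊥
  min : ∀ X : AddSubgroup N, Inv ι X → X ≤ Y → X = ⊥ ∨ X = Y

variable {ι}

theorem exists_mn [Finite N] {X : AddSubgroup N} (hX : Inv ι X) (hne : X ≠ ⊥) : ∃ Y ≤ X, Mn ι Y := by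
  obtain ⟨Y, ⟨hY1, hY2, hY3⟩, hmin⟩ := (wellFounded_lt (α := AddSubgroup N)).has_min
    {Y | Inv ι Y ∧ Y ≠ ⊥ ∧ Y ≤ X} ⟨X, hX, hne, le_rfl⟩
  refine ⟨Y, hY3, hY1, hY2, fun Z hZ hZY => ?_⟩
  by_contra hcon
  push Not at hcon
  exact hmin Z ⟨hZ, hcon.1, hZY.trans hY3⟩ (lt_of_le_of_ne hZY hcon.2)

/-- translate of a subgroup -/
def tr (h : H) (Y : AddSubgroup N) : AddSubgroup N := Y.map (DistribSMul.toAddMonoidHom N h)

theorem mem_tr {h : H} {Y : AddSubgroup N} {n : N} : n ∈ tr h Y ↔ h⁻¹ • n ∈ Y := by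
  constructor
  · rintro ⟨y, hy, rfl⟩
    change h⁻¹ • h • y ∈ Y
    rwa [inv_smul_smul]
  · intro hn
    exact ⟨h⁻¹ • n, hn, smul_inv_smul h n⟩

theorem tr_tr (g h : H) (Y : AddSubgroup N) : tr g (tr h Y) = tr (g * h) Y := by
  ext n
  rw [mem_tr, mem_tr, mem_tr, _root_.mul_inv_rev, mul_smul]

theorem tr_one (Y : AddSubgroup N) : tr (1 : H) Y = Y := by
  ext n
  rw [mem_tr, inv_one, one_smul]

theorem tr_mono {h : H} {X Y : AddSubgroup N} (hXY : X ≤ Y) : tr h X ≤ tr h Y := fun _ hn =>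
  mem_tr.2 (hXY (mem_tr.1 hn))

theorem tr_bot (h : H) : tr h (⊥ : AddSubgroup N) = ⊥ := by
  ext n
  rw [mem_tr, AddSubgroup.mem_bot, AddSubgroup.mem_bot]
  exact smul_eq_zero_iff_eq h⁻¹

theorem card_tr (h : H) (Y : AddSubgroup N) : Nat.card (tr h Y) = Nat.card Y :=
  (Nat.card_congr (Y.equivMapOfInjective (DistribSMul.toAddMonoidHom N h) (MulAction.injective h)).toEquiv).symm

theorem inv_tr (hn : ι.range.Normal) {Y : AddSubgroup N} (hY : Inv ι Y) (h : H) : Inv ι (tr h Y) := by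
  intro g n hnn
  rw [mem_tr] at *
  obtain ⟨g', hg'⟩ := hn.conj_mem (ι g) ⟨g, rfl⟩ h⁻¹
  rw [inv_inv] at hg'
  have := hY g' _ hnn
  rw [hg', ← mul_smul] at this
  rw [← mul_smul]
  have e : h⁻¹ * ι g * h * h⁻¹ = h⁻¹ * ι g := by group
  rwa [e] at this

theorem mn_tr (hn : ι.range.Normal) {Y : AddSubgroup N} (hY : Mn ι Y) (h : H) : Mn ι (tr h Y) where
  inv := inv_tr hn hY.inv h
  ne := fun e => hY.ne (by
    have := congrArg (tr h⁻¹) e
    rwa [tr_tr, inv_mul_cancel, tr_one, tr_bot] at this)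
  min := fun X hX hXY => by
    have h1 : tr h⁻¹ X ≤ Y := by
      have := tr_mono (h := h⁻¹) hXY
      rwa [tr_tr, inv_mul_cancel, tr_one] at this
    rcases hY.min _ (inv_tr hn hX h⁻¹) h1 with e | e
    · left
      have := congrArg (tr h) e
      rwa [tr_tr, mul_inv_cancel, tr_one, tr_bot] at this
    · right
      have := congrArg (tr h) e
      rwa [tr_tr, mul_inv_cancel, tr_one] at this

/-- Clifford -/
theorem mn_span
    (irr : ∀ X : AddSubgroup N, (∀ h : H, ∀ x ∈ X, h • x ∈ X) → X = ⊥ ∨ X = ⊤) {Y : AddSubgroup N}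
    (hY : Mn ι Y) : ⨆ h : H, tr h Y = ⊤ := by
  refine (irr _ fun g x hx => ?_).resolve_left fun e => hY.ne ?_
  · have h1 : tr g (⨆ h : H, tr h Y) ≤ ⨆ h : H, tr h Y := by
      unfold tr
      rw [AddSubgroup.map_iSup]
      refine iSup_le fun h => ?_
      have := tr_tr g h Y
      unfold tr at this
      rw [this]
      exact le_iSup (fun h : H => Y.map (DistribSMul.toAddMonoidHom N h)) (g * h)
    apply h1
    rw [mem_tr, inv_smul_smul]
    exact hx
  · have h1 : tr (1 : H) Y ≤ ⨆ h : H, tr h Y := le_iSup (fun h : H => tr h Y) 1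
    rw [e, tr_one] at h1
    exact le_bot_iff.1 h1

/-- `C_N(SL(2,F)) = 0` -/
theorem fix_eq_zero (hn : ι.range.Normal)
    (irr : ∀ X : AddSubgroup N, (∀ h : H, ∀ x ∈ X, h • x ∈ X) → X = ⊥ ∨ X = ⊤)
    (hnt : ∃ g : SL2, ∃ n : N, ι g • n ≠ n) {n : N} (h : ∀ g : SL2, ι g • n = n) : n = 0 := by
  let C : AddSubgroup N :=
    { carrier := {n | ∀ g : SL2, ι g • n = n}
      add_mem' := fun {x y} hx hy g => by rw [smul_add, hx g, hy g]
      zero_mem' := fun g => smul_zero _
      neg_mem' := fun {x} hx g => by rw [smul_neg, hx g] }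
  rcases irr C (fun h x hx g => by
    obtain ⟨g', hg'⟩ := hn.conj_mem (ι g) ⟨g, rfl⟩ h⁻¹
    rw [inv_inv] at hg'
    have h1 := hx g'
    rw [hg'] at h1
    rw [← mul_smul]
    calc (ι g * h) • x = h • ((h⁻¹ * ι g * h) • x) := by rw [← mul_smul]; congr 1; group
      _ = h • x := by rw [h1]) with e | e
  · have : n ∈ C := h
    rwa [e, AddSubgroup.mem_bot] at this
  · exfalso
    obtain ⟨g, m, hm⟩ := hnt
    have : m ∈ C := by rw [e]; trivial
    exact hm (this g)

/-- the action on an invariant subgroup -/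
def res {Y : AddSubgroup N} (hY : Inv ι Y) : SL2 →* AddMonoid.End Y where
  toFun g :=
    { toFun := fun y => ⟨ι g • (y : N), hY g y y.2⟩
      map_zero' := Subtype.ext (smul_zero _)
      map_add' := fun x y => Subtype.ext (smul_add _ _ _) }
  map_one' := by
    ext y
    change ι 1 • (y : N) = y
    rw [map_one, one_smul]
  map_mul' g h := by
    ext y
    change ι (g * h) • (y : N) = ι g • (ι h • (y : N))
    rw [map_mul, mul_smul]

theorem res_apply {Y : AddSubgroup N} (hY : Inv ι Y) (g : SL2) (y : Y) : ((res hY g y : Y) : N) = ι g • (y : N) := rfl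

theorem res_irr {Y : AddSubgroup N} (hY : Mn ι Y) (W : AddSubgroup Y) (hW : ∀ g, ∀ w ∈ W, res hY.inv g w ∈ W) :
    W = ⊥ ∨ W = ⊤ := by
  have h1 : Inv ι (W.map Y.subtype) := by
    rintro g _ ⟨w, hw, rfl⟩
    exact ⟨res hY.inv g w, hW g w hw, rfl⟩
  have h2 : W.map Y.subtype ≤ Y := by
    rintro _ ⟨w, -, rfl⟩
    exact w.2
  rcases hY.min _ h1 h2 with e | e
  · left
    rw [AddSubgroup.map_eq_bot_iff_of_injective] at e
    · exact e
    · exact Subtype.val_injective
  · right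
    rw [eq_top_iff]
    intro y _
    have : (y : N) ∈ W.map Y.subtype := by rw [e]; exact y.2
    obtain ⟨w, hw, hwy⟩ := this
    rwa [← Subtype.ext hwy]

theorem mn_nontrivial {Y : AddSubgroup N} (hY : Mn ι Y) : Nontrivial Y := by
  rcases subsingleton_or_nontrivial Y with h | h
  · refine absurd ?_ hY.ne
    rw [AddSubgroup.eq_bot_iff_forall]
    intro x hx
    exact congrArg Subtype.val (Subsingleton.elim (⟨x, hx⟩ : Y) 0)
  · exact h

end defs

section trace

variable {H : Type*} {N : Type*} [Group H] [AddCommGroup N] [DistribMulAction H N]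
  {ι : Matrix.SpecialLinearGroup (Fin 2) F →* H} [Fintype F] [CharP F 2] {m : ℕ}

/-- `∑_k (tor t)^k = 0` on `N`. -/
theorem trace_zero [Finite N] (hm : Fintype.card F = 2 ^ m) (h2 : ∀ n : N, n + n = 0) (hn : ι.range.Normal)
    (irr : ∀ X : AddSubgroup N, (∀ h : H, ∀ x ∈ X, h • x ∈ X) → X = ⊥ ∨ X = ⊤)
    (hnt : ∃ g : SL2, ∃ n : N, ι g • n ≠ n) :
    ∃ t : F, tor t ^ (2 ^ m + 1) = 1 ∧ ∀ n : N, ∑ k ∈ Finset.range (2 ^ m + 1), ι (tor t ^ k) • n = 0 := by
  obtain ⟨t, ht, hsum⟩ := exists_tor_mod hm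
  refine ⟨t, ht, ?_⟩
  let τ : N →+ N := ∑ k ∈ Finset.range (2 ^ m + 1), DistribSMul.toAddMonoidHom N (ι (tor t ^ k))
  have hτ : ∀ n, τ n = ∑ k ∈ Finset.range (2 ^ m + 1), ι (tor t ^ k) • n := fun n => by
    change (∑ k ∈ Finset.range (2 ^ m + 1), DistribSMul.toAddMonoidHom N (ι (tor t ^ k))) n = _
    rw [AddMonoidHom.finsetSum_apply]
    rfl
  have hne : (⊤ : AddSubgroup N) ≠ ⊥ := by
    obtain ⟨g, n, hgn⟩ := hnt
    intro e
    have h1 : n ∈ (⊥ : AddSubgroup N) := by rw [← e]; trivial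
    rw [AddSubgroup.mem_bot] at h1
    rw [h1, smul_zero] at hgn
    exact hgn rfl
  obtain ⟨Y, -, hY⟩ := exists_mn (ι := ι) (X := (⊤ : AddSubgroup N)) (fun _ _ _ => trivial) hne
  have h1 : ∀ Z : AddSubgroup N, Mn ι Z → Z ≤ τ.ker := by
    intro Z hZ z hz
    have : Nontrivial Z := mn_nontrivial hZ
    have h3 := hsum (V := Z) (fun v => Subtype.ext (h2 v)) (res hZ.inv) (res_irr hZ) (by
      by_contra hcon
      push Not at hcon
      apply hZ.ne
      rw [AddSubgroup.eq_bot_iff_forall]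
      intro x hx
      exact fix_eq_zero hn irr hnt fun g => congrArg Subtype.val (hcon g ⟨x, hx⟩)) ⟨z, hz⟩
    rw [AddMonoidHom.mem_ker, hτ]
    have h4 := congrArg Subtype.val h3
    rw [AddSubgroup.val_finsetSum] at h4
    exact h4
  have h5 : (⊤ : AddSubgroup N) ≤ τ.ker := by
    rw [← mn_span irr hY]
    exact iSup_le fun h => h1 _ (mn_tr hn hY h)
  intro n
  rw [← hτ]
  exact h5 trivial

/-- every `up b`, `b ≠ 0`, inverts an element which generates a nonsplit torus -/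
theorem exists_inverted {t : F} (ht : tor t ^ (2 ^ m + 1) = 1)
    (hs : ∀ n : N, ∑ k ∈ Finset.range (2 ^ m + 1), ι (tor t ^ k) • n = 0) {b : F} (hb : b ≠ 0) :
    ∃ r : SL2, r ^ (2 ^ m + 1) = 1 ∧ up b * r * (up b)⁻¹ = r⁻¹ ∧
      ∀ n : N, ∑ k ∈ Finset.range (2 ^ m + 1), ι (r ^ k) • n = 0 := by
  obtain ⟨s, hs'⟩ := FiniteField.isSquare_of_char_two (F := F) (ringChar.eq F 2).symm.symm b
  have hs0 : s ≠ 0 := by
    rintro rfl
    exact hb (by rw [hs', mul_zero])
  have hww : (ww : SL2) * ww = 1 := by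
    apply Subtype.ext
    change (!![0, 1; 1, 0] : Matrix (Fin 2) (Fin 2) F) * !![0, 1; 1, 0] = 1
    ext i j
    fin_cases i <;> fin_cases j <;> simp [Matrix.mul_apply, Fin.sum_univ_two]
  have h1 : (up 1 : SL2) = lo 1 * ww * lo 1 := by
    apply Subtype.ext
    change (!![1, 1; 0, 1] : Matrix (Fin 2) (Fin 2) F) = !![1, 0; 1, 1] * !![0, 1; 1, 0] * !![1, 0; 1, 1]
    ext i j
    fin_cases i <;> fin_cases j <;> simp [Matrix.mul_apply, Fin.sum_univ_two, CharTwo.add_self_eq_zero]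
  have hlo : (lo 1 : SL2)⁻¹ = lo 1 := by rw [lo_inv, CharTwo.neg_eq]
  have h2 : up b = dg s hs0 * lo 1 * ww * (dg s hs0 * lo 1)⁻¹ := by
    have e1 : up b = dg s hs0 * up 1 * (dg s hs0)⁻¹ := by
      rw [dg_up, mul_one, mul_inv_cancel_right, pow_two, hs']
    rw [e1, h1, _root_.mul_inv_rev, hlo]
    group
  set x := dg s hs0 * lo 1 with hx
  have hpow : ∀ k : ℕ, (x * tor t * x⁻¹) ^ k = x * tor t ^ k * x⁻¹ := fun k => conj_pow
  refine ⟨x * tor t * x⁻¹, ?_, ?_, fun n => ?_⟩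
  · rw [hpow, ht, mul_one, mul_inv_cancel]
  · rw [h2]
    have h3 := ww_tor t
    have h4 : (ww : SL2)⁻¹ = ww := inv_eq_of_mul_eq_one_left hww
    calc x * ww * x⁻¹ * (x * tor t * x⁻¹) * (x * ww * x⁻¹)⁻¹ = x * (ww * tor t * ww⁻¹) * x⁻¹ := by group
      _ = x * (tor t)⁻¹ * x⁻¹ := by rw [h4, h3]
      _ = (x * tor t * x⁻¹)⁻¹ := by group
  · have h5 : ∀ k, ι ((x * tor t * x⁻¹) ^ k) • n = ι x • (ι (tor t ^ k) • (ι x⁻¹ • n)) := fun k => by
      rw [hpow, map_mul, map_mul, mul_smul, mul_smul]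
    rw [Finset.sum_congr rfl fun k _ => h5 k, ← Finset.smul_sum, hs, smul_zero]

/-- `|N| ≤ |N : C_N(a)|²` if `a` acts on `SL(2,F)` as an involution of `U` -/
theorem card_le_sq [Finite N] (hm : Fintype.card F = 2 ^ m) (h2 : ∀ n : N, n + n = 0) {t : F}
    (ht : tor t ^ (2 ^ m + 1) = 1)
    (hs : ∀ n : N, ∑ k ∈ Finset.range (2 ^ m + 1), ι (tor t ^ k) • n = 0) {b : F} (hb : b ≠ 0) {a : H}
    (ha : ∀ g, a * ι g * a⁻¹ = ι (up b * g * (up b)⁻¹)) : Nat.card N ≤ (fixN N a).index ^ 2 := by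
  obtain ⟨r, hr1, hr2, hr3⟩ := exists_inverted ht hs hb
  have hm0 : m ≠ 0 := by
    rintro rfl
    have := Fintype.one_lt_card (α := F)
    rw [hm] at this
    simp at this
  -- `C ∩ C^r = 0`
  have key : ∀ n : N, n ∈ fixN N a → n ∈ tr (ι r) (fixN N a) → n = 0 := by
    intro n h3 h4
    rw [mem_tr, mem_fixN] at h4
    rw [mem_fixN] at h3
    have h5 : (ι r)⁻¹ • n = ι r • n := by
      have e1 : a * (ι r)⁻¹ * a⁻¹ = ι r := by
        have := ha r
        rw [hr2, map_inv] at this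
        calc a * (ι r)⁻¹ * a⁻¹ = (a * ι r * a⁻¹)⁻¹ := by group
          _ = ι r := by rw [this, inv_inv]
      calc (ι r)⁻¹ • n = a • (ι r)⁻¹ • n := h4.symm
        _ = (a * (ι r)⁻¹ * a⁻¹) • (a • n) := by rw [← mul_smul, ← mul_smul]; congr 1; group
        _ = ι r • n := by rw [e1, h3]
    have h6 : (ι r * ι r) • n = n := by
      rw [mul_smul, ← h5, smul_inv_smul]
    have h7 : ι r • n = n := by
      have h8 : ∀ k : ℕ, (ι r) ^ (2 * k) • n = n := by
        intro k
        induction k with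
        | zero => rw [mul_zero, pow_zero, one_smul]
        | succ k ih => rw [show 2 * (k + 1) = 2 * k + 2 by ring, pow_add, mul_smul, pow_two, h6, ih]
      have h9 : (ι r) ^ (2 ^ m + 1) = 1 := by rw [← map_pow, hr1, map_one]
      obtain ⟨k, hk⟩ := Nat.exists_eq_succ_of_ne_zero hm0
      have h10 : (ι r) ^ (2 ^ m) • n = n := by
        rw [hk, pow_succ, mul_comm]
        exact h8 _
      have h11 : (ι r) ^ (2 ^ m + 1) • n = ι r • ((ι r) ^ (2 ^ m) • n) := by rw [pow_succ', mul_smul]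
      rw [h9, one_smul, h10] at h11
      exact h11.symm
    have h8 : ∀ k : ℕ, ι (r ^ k) • n = n := by
      intro k
      induction k with
      | zero => rw [pow_zero, map_one, one_smul]
      | succ k ih => rw [pow_succ, map_mul, mul_smul, h7, ih]
    have h9 := hr3 n
    rw [Finset.sum_congr rfl fun k _ => h8 k, Finset.sum_const, Finset.card_range, succ_nsmul] at h9
    obtain ⟨k, hk⟩ := Nat.exists_eq_succ_of_ne_zero hm0
    have h10 : 2 ^ m • n = 0 := by
      rw [hk, pow_succ, mul_comm, mul_nsmul, two_nsmul, h2, nsmul_zero]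
    rwa [h10, zero_add] at h9
  have h3 : Nat.card (tr (ι r) (fixN N a)) ≤ (fixN N a).index := by
    refine Nat.card_le_card_of_injective
      (fun x : tr (ι r) (fixN N a) => (QuotientAddGroup.mk (x : N) : N ⧸ fixN N a)) ?_
    intro x y hxy
    have h4 := QuotientAddGroup.eq.1 hxy
    have h5 := key _ h4 (add_mem (neg_mem x.2) y.2)
    exact Subtype.ext (neg_add_eq_zero.1 h5)
  rw [card_tr] at h3
  rw [← AddSubgroup.card_mul_index (fixN N a), pow_two]
  exact Nat.mul_le_mul_right _ h3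

end trace

end Cfsg.Agent.Omega.NO3S.SLTwo

end
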